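import Cfsg.Agent.Lib.Helper59.CY.Base

set_option autoImplicit false

/-! # helper59's farm CY: small auxiliary lemmas used in stage 1 -/

namespace Cfsg.Agent.Lib.Helper2.CY

open Cfsg.Agent.Lib.Helper59.CY

variable {G : Type*} [Group G]

theorem comm_of_cyclic {H : Subgroup G} (hc : IsCyclic H) :
    ∀ a ∈ H, ∀ b ∈ H, a * b = b * a := by
  intro a ha b hb
  have h := (IsCyclic.isMulCommutative (α := H)).is_comm.comm ⟨a, ha⟩ ⟨b, hb⟩
  exact congrArg Subtype.val h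

theorem relIndex_mul_card_of_le {H K : Subgroup G} (h : H ≤ K) :
    H.relIndex K * Nat.card H = Nat.card K := by
  rw [← Subgroup.relIndex_bot_left, ← Subgroup.relIndex_bot_left, mul_comm]
  exact Subgroup.relIndex_mul_relIndex ⊥ H K bot_le h

theorem card_sup_dvd (T K : Subgroup G) [T.Normal] :
    Nat.card (T ⊔ K : Subgroup G) ∣ Nat.card T * Nat.card K := by
  rw [← relIndex_mul_card_of_le (le_sup_left : T ≤ T ⊔ K), Subgroup.relIndex_sup_left, mul_comm]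
  exact Nat.mul_dvd_mul_left _ (Subgroup.relIndex_dvd_card _ _)

theorem conj_mem_of_mem_Nz {H : Subgroup G} {x y : G} (hx : x ∈ Nz H) (hy : y ∈ H) :
    x * y * x⁻¹ ∈ H := (Subgroup.mem_normalizer_iff.1 hx y).1 hy

variable [Finite G] {p : ℕ} [Fact p.Prime]

theorem exists_gen {H : Subgroup G} (hc : IsCyclic H) :
    ∃ g ∈ H, ∀ y ∈ H, ∃ j : ℕ, y = g ^ j := by
  obtain ⟨g, hg⟩ := IsCyclic.exists_generator (α := H)
  refine ⟨g.1, g.2, fun y hy => ?_⟩
  have h1 := hg ⟨y, hy⟩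
  rw [← mem_powers_iff_mem_zpowers] at h1
  obtain ⟨j, hj⟩ := h1
  exact ⟨j, by simpa using (congrArg Subtype.val hj).symm⟩

omit [Fact p.Prime] in
theorem cyc_conj_pow {H : Subgroup G} (hc : IsCyclic H) {x : G} (hx : x ∈ Nz H) :
    ∃ k : ℕ, ∀ y ∈ H, x * y * x⁻¹ = y ^ k := by
  obtain ⟨g, hgH, hg⟩ := exists_gen hc
  obtain ⟨k, hk⟩ := hg _ (conj_mem_of_mem_Nz hx hgH)
  refine ⟨k, fun y hy => ?_⟩
  obtain ⟨j, rfl⟩ := hg y hy
  rw [← conj_pow, hk, ← pow_mul, ← pow_mul, mul_comm]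

theorem normal_le_sylow (P : Sylow p G) {R : Subgroup G} (hR : R.Normal) (hRp : IsPGroup p R) :
    R ≤ (P : Subgroup G) := by
  obtain ⟨Q, hQ⟩ := hRp.exists_le_sylow
  obtain ⟨g, rfl⟩ := MulAction.exists_smul_eq G Q P
  intro r hr
  rw [Sylow.coe_subgroup_smul, Subgroup.mem_pointwise_smul_iff_inv_smul_mem]
  apply hQ
  have := hR.conj_mem r hr g⁻¹
  simpa [MulAut.smul_def] using this

theorem isPGroup_zpowers {w : G} (hw : PE p w) : IsPGroup p (Subgroup.zpowers w) := by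
  obtain ⟨k, hk⟩ := hw
  apply IsPGroup.of_card (n := k)
  rw [Nat.card_zpowers, hk]

theorem exists_conj_mem_sylow (P : Sylow p G) {w : G} (hw : PE p w) :
    ∃ g : G, g * w * g⁻¹ ∈ (P : Subgroup G) := by
  obtain ⟨Q, hQ⟩ := (isPGroup_zpowers hw).exists_le_sylow
  obtain ⟨g, rfl⟩ := MulAction.exists_smul_eq G Q P
  refine ⟨g, ?_⟩
  rw [Sylow.coe_subgroup_smul, Subgroup.mem_pointwise_smul_iff_inv_smul_mem]
  have : w ∈ (Q : Subgroup G) := hQ (Subgroup.mem_zpowers w)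
  simpa [MulAut.smul_def, mul_assoc] using this

theorem PE_of_mem {R : Subgroup G} (hR : IsPGroup p R) {x : G} (hx : x ∈ R) : PE p x := by
  obtain ⟨k, hk⟩ := hR ⟨x, hx⟩
  have h1 : x ^ p ^ k = 1 := by
    have := congrArg Subtype.val hk
    simpa using this
  obtain ⟨j, -, hj⟩ := (Nat.dvd_prime_pow (Fact.out : p.Prime)).1 (orderOf_dvd_of_pow_eq_one h1)
  exact ⟨j, hj⟩

end Cfsg.Agent.Lib.Helper2.CY
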